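import Mathlib
import Cfsg.Agent.StdEven.Red_m3
import Cfsg.Agent.ProdFusion.FunctorComplete_m3
import Cfsg.Agent.Prune
set_option linter.all false
open scoped Cfsg.Agent.FastGrp

-- part: WreathFusion/Final
section
/-!
# Theorem W

A finite simple group has no Sylow 2-subgroup `P = S₁ × S₂` as in `WData`.
-/

set_option autoImplicit false

namespace Cfsg.Agent.WreathFusion

open Subgroup

variable {G : Type*} [Group G] [Finite G] {S₁ S₂ : Subgroup G} {P : Sylow 2 G}

/-- **Theorem W.** -/
theorem WData.not_simple [IsSimpleGroup G] (h : WData (P : Subgroup G) S₁ S₂) : False :=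
  h.false_of_simple fun A B hAB hA hB => Cfsg.Agent.TwoFusion.ClosedCommutator.commutator_le P A B hAB hA hB

end Cfsg.Agent.WreathFusion
end

-- part: WreathFusion/Kill
section
/-!
# The split case of S1778 is impossible

`P` a Sylow 2-subgroup of the simple group `L ≤ G`; the data of Theorem W are given in `G` (`false_of_pdata`), in a
quotient of a subgroup `N` of `G` by a group of odd order (`false_of_quot`), or in `X = N_G(O)/O` (`false_of_im`).
-/

set_option autoImplicit false

namespace Cfsg.Agent.WreathFusion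

open Subgroup Cfsg.Agent.StdEven.Syl Cfsg.Agent.StdEven.CoreQuot
open scoped commutatorElement

variable {G : Type*} [Group G] [Finite G]

theorem false_of_pdata {L : Subgroup G} (hs : IsSimpleGroup ↥L) (hL : ∀ D : Subgroup G, D ≤ ⁅D, D⁆ → D ≤ L)
    {P S₁ S₂ D₁ D₂ : Subgroup G} (hP : IsSyl P L) (h : PData P S₁ S₂ D₁ D₂) : False := by
  have e : ∀ {Y : Subgroup G}, Y ≤ L → (Y.subgroupOf L).map L.subtype = Y := fun hY =>
    Subgroup.map_subgroupOf_eq_of_le hY
  have h1 : PData (P.subgroupOf L) (S₁.subgroupOf L) (S₂.subgroupOf L) (D₁.subgroupOf L) (D₂.subgroupOf L) := by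
    apply PData.of_map L.subtype L.subtype_injective
    rw [e hP.le, e (h.prod.1.trans hP.le), e (h.prod.2.1.trans hP.le), e (hL _ h.perf₁), e (hL _ h.perf₂)]
    exact h
  exact WData.not_simple (P := hP.toSylow) (by rw [hP.coe_toSylow]; exact h1.wdata)

theorem false_of_quot {L N : Subgroup G} (hs : IsSimpleGroup ↥L) (hL : ∀ D : Subgroup G, D ≤ ⁅D, D⁆ → D ≤ L)
    {X : Type*} [Group X] (f : ↥N →* X) (hf : Function.Surjective f) (hk : Odd (Nat.card f.ker)) {P : Subgroup G}
    (hP : IsSyl P L) (hPN : P ≤ N) {S₁' S₂' D₁' D₂' : Subgroup X}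
    (h : PData ((P.subgroupOf N).map f) S₁' S₂' D₁' D₂') : False := by
  obtain ⟨D₁, D₂, h1⟩ := h.lift f hf hk (P := P.subgroupOf N) hP.two.comap_subtype
  have h2 := h1.map N.subtype N.subtype_injective
  rw [Subgroup.map_subgroupOf_eq_of_le hPN] at h2
  exact false_of_pdata hs hL hP h2

/-- **The split case.** -/
theorem false_of_im {L A T : Subgroup G} {t : G} (C : StdL2.Setup.Conf L A t) (h : Hyp A t T) {P : Subgroup G}
    (hP : IsSyl P L) (hPN : P ≤ NO A t) {S₁' S₂' D₁' D₂' : Subgroup (XQ A t)}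
    (hd : PData (im A t P) S₁' S₂' D₁' D₂') : False := by
  refine false_of_quot C.simple ?_ (pr A t) (pr_surjective A t) h.odd_ker hP hPN hd
  have := C.normal
  intro D hD
  -- `G / L` is cyclic
  have hcyc : ⁅(⊤ : Subgroup G), ⊤⁆ ≤ L := by
    rw [commutator_le]
    have hrep : ∀ g : G, ∃ l ∈ L, ∃ n : ℤ, l * t ^ n = g := by
      intro g
      have hg : g ∈ ((L ⊔ zpowers t : Subgroup G) : Set G) := by rw [C.gen]; exact mem_top g
      rw [Subgroup.normal_mul] at hg
      obtain ⟨l, hl, z, hz, rfl⟩ := hg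
      obtain ⟨n, rfl⟩ := mem_zpowers_iff.1 hz
      exact ⟨l, hl, n, rfl⟩
    have hq : ∀ g h : G, (QuotientGroup.mk' L) g * (QuotientGroup.mk' L) h =
        (QuotientGroup.mk' L) h * (QuotientGroup.mk' L) g := by
      intro g g'
      obtain ⟨l, hl, n, rfl⟩ := hrep g
      obtain ⟨l', hl', n', rfl⟩ := hrep g'
      have e1 : (QuotientGroup.mk' L) l = 1 := (QuotientGroup.eq_one_iff l).2 hl
      have e2 : (QuotientGroup.mk' L) l' = 1 := (QuotientGroup.eq_one_iff l').2 hl'
      rw [map_mul, map_mul, e1, e2, one_mul, one_mul, ← map_mul, ← map_mul, ← zpow_add, ← zpow_add, add_comm]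
    intro g _ g' _
    have h1 : (QuotientGroup.mk' L) ⁅g, g'⁆ = 1 := by
      rw [map_commutatorElement, commutatorElement_eq_one_iff_mul_comm]
      exact hq g g'
    exact (QuotientGroup.eq_one_iff _).1 h1
  exact hD.trans ((commutator_mono le_top le_top).trans hcyc)

end Cfsg.Agent.WreathFusion
end
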